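import Mathlib
import Cfsg.Agent.Lib.NoDiv.Defs
import Cfsg.Agent.Lib.NoDiv.Vanish
import Cfsg.Agent.Lib.NoDiv.LemmaX
import Cfsg.Agent.S0033
import Cfsg.Agent.S4845

/-!
# The fixed-point-free element of the no-divisibility theorem (case two)
-/

set_option autoImplicit false

namespace Cfsg.Agent.Lib.NoDiv

open Cfsg

universe u

namespace Free

/-- Splitting off the `t`-part of an element. -/
theorem exists_parts {G : Type*} [Group G] [Finite G] (g : G) {t : ℕ} (ht : t.Prime) :
    ∃ (e n' u v : ℕ), ¬ t ∣ n' ∧ (g ^ u) ^ (t ^ e) = 1 ∧ (g ^ v) ^ n' = 1 ∧ g ^ u * g ^ v = g := by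
  have hN : orderOf g ≠ 0 := (orderOf_pos g).ne'
  obtain ⟨e, n', hn', hN'⟩ := Nat.exists_eq_pow_mul_and_not_dvd hN t ht.ne_one
  have hco : Nat.Coprime (t ^ e) n' :=
    Nat.Coprime.pow_left e ((Nat.Prime.coprime_iff_not_dvd ht).2 hn')
  obtain ⟨u, hu1, hu2⟩ := Nat.chineseRemainder hco 1 0
  obtain ⟨v, hv1, hv2⟩ := Nat.chineseRemainder hco 0 1
  refine ⟨e, n', u, v, hn', ?_, ?_, ?_⟩
  · rw [← pow_mul]
    apply orderOf_dvd_iff_pow_eq_one.1
    rw [hN', mul_comm (t ^ e)]
    exact Nat.mul_dvd_mul ((Nat.modEq_zero_iff_dvd).1 hu2) (dvd_refl _)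
  · rw [← pow_mul]
    apply orderOf_dvd_iff_pow_eq_one.1
    rw [hN']
    exact Nat.mul_dvd_mul ((Nat.modEq_zero_iff_dvd).1 hv1) (dvd_refl _)
  · rw [← pow_add]
    have h1 : u + v ≡ 1 [MOD orderOf g] := by
      rw [hN']
      apply (Nat.modEq_and_modEq_iff_modEq_mul hco).1
      constructor
      · simpa using hu1.add hv1
      · simpa using hu2.add hv2
    have h2 : g ^ (u + v) = g ^ 1 := (pow_eq_pow_iff_modEq).2 h1
    rwa [pow_one] at h2

/-- A `t`-element of a subgroup of order prime to `t` is trivial. -/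
theorem eq_one_of_mem {G : Type*} [Group G] [Finite G] (K : Subgroup G) {t e : ℕ} (ht : t.Prime)
    (hcop : ¬ t ∣ Nat.card K) {z : G} (hz : z ∈ K) (hpow : z ^ (t ^ e) = 1) : z = 1 := by
  have h1 : orderOf z ∣ t ^ e := orderOf_dvd_of_pow_eq_one hpow
  obtain ⟨i, -, hi⟩ := (Nat.dvd_prime_pow ht).1 h1
  rcases Nat.eq_zero_or_pos i with rfl | hpos
  · rw [pow_zero] at hi
    exact orderOf_eq_one_iff.1 hi
  · exfalso
    apply hcop
    have h2 : orderOf z ∣ Nat.card K := Subgroup.orderOf_dvd_natCard K hz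
    exact (dvd_pow_self t hpos.ne').trans (hi ▸ h2)

end Free

variable {A : Type u} [Group A] [Finite A] {α : A ≃* A} {s k : ℕ}

theorem exists_fpf (h : MHyp α s k) (hc : CaseTwo α) (hnab : commutator A ≠ ⊥) {b y : A}
    (hb : Bad α b) (hy : y * (α b * b⁻¹)⁻¹ ∈ commutator A) :
    ∃ (m : ℕ) (x : A) (t : ℕ), t.Prime ∧ ¬ t ∣ Nat.card (commutator A) ∧ x ^ t = 1 ∧
      x * (y ^ m)⁻¹ ∈ commutator A ∧ x ∉ commutator A ∧
      ∀ z ∈ commutator A, x * z * x⁻¹ = z → z = 1 := by
  classical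
  let q : A →* Abelianization A := Abelianization.of
  have hq : ∀ u : A, q u = 1 ↔ u ∈ commutator A := fun u => by
    rw [← Abelianization.ker_of, MonoidHom.mem_ker]
  let σ : Abelianization A →* Abelianization A := Abelianization.map α.toMonoidHom
  have hσ : ∀ u : A, σ (q u) = q (α u) := fun u => by
    simp [σ, q]
  let δ : A →* Abelianization A := (q.comp α.toMonoidHom) * q⁻¹
  have hδa : ∀ u : A, δ u = q (α u) * (q u)⁻¹ := fun u => by
    simp [δ]
  have hδ : ∀ u : A, δ u = 1 ↔ ¬ Bad α u := by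
    intro u
    have h1 : δ u = q (α u * u⁻¹) := by
      rw [hδa, map_mul, map_inv]
    rw [h1, Bad, not_not, hq]
  have hqy : q y = δ b := by
    have h1 := (hq _).2 hy
    rw [map_mul, map_inv, mul_inv_eq_one] at h1
    rw [h1, hδa, map_mul, map_inv]
  have hδb : δ b ≠ 1 := fun h1 => (hδ b).1 h1 hb
  have hord1 : orderOf (δ b) ≠ 1 := fun h1 => hδb (orderOf_eq_one_iff.1 h1)
  obtain ⟨t, ht, htd⟩ := Nat.exists_prime_and_dvd hord1
  let m := orderOf (δ b) / t
  have hp₁ : orderOf ((δ b) ^ m) = t := orderOf_pow_orderOf_div (orderOf_pos _).ne' htd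
  have hp₁' : (δ b) ^ m ≠ 1 := by
    intro h1
    rw [h1, orderOf_one] at hp₁
    exact ht.one_lt.ne hp₁
  have hp₁t : ((δ b) ^ m) ^ t = 1 := by
    rw [← hp₁]; exact pow_orderOf_eq_one _
  -- `t ≠ s`
  have hts : t ≠ s := by
    rintro rfl
    obtain ⟨e, n', u, v, hn', h1, h2, h3⟩ := Free.exists_parts (b ^ m) ht
    have hcb : Bad α ((b ^ m) ^ u) := by
      by_contra hcon
      have h4 := (hδ _).2 hcon
      have h5 : δ (b ^ m) = δ ((b ^ m) ^ v) := by
        conv_lhs => rw [← h3]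
        rw [map_mul, h4, one_mul]
      have h6 : (δ b ^ m) ^ n' = 1 := by
        rw [← map_pow δ b m, h5, ← map_pow, h2, map_one]
      have h7 := orderOf_dvd_of_pow_eq_one h6
      rw [hp₁] at h7
      exact hn' h7
    have hnc : ¬ IsMulCommutative A := by
      intro hcomm
      apply hnab
      rw [commutator_def, Subgroup.commutator_eq_bot_iff_le_centralizer]
      intro a _ c _
      exact (hcomm.is_comm.comm a c).symm
    obtain ⟨θ, hθ⟩ := Cfsg.Agent.S4845.exists_nonlinear hnc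
    have hθ1 : 1 < charDegree (θ : A → ℂ) := by
      have hpos := Cfsg.Agent.Lib.Char.Codegree.charDegree_pos θ.2
      omega
    exact h.ndvd θ hθ1 (prime_dvd_degree h ht hcb h1 θ hθ1)
  -- the `t`-part of `y ^ m`
  obtain ⟨e, n', u, v, hn', h1, h2, h3⟩ := Free.exists_parts (y ^ m) ht
  set x := (y ^ m) ^ u with hxdef
  set w := (y ^ m) ^ v with hwdef
  have hqm : q (y ^ m) = (δ b) ^ m := by rw [map_pow, hqy]
  have hqw : q w = 1 := by
    have h4 : q x * q w = (δ b) ^ m := by rw [← map_mul, h3, hqm]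
    have h5 : (q w) ^ n' = 1 := by rw [← map_pow, h2, map_one]
    have h6 : (q w) ^ (t ^ (e + 1)) = 1 := by
      have h7 : q w = (δ b) ^ m * (q x)⁻¹ := by rw [← h4]; simp
      have h8 : ((δ b) ^ m) ^ (t ^ (e + 1)) = 1 := by
        rw [pow_succ' t e, pow_mul, hp₁t, one_pow]
      have h9 : (q x) ^ (t ^ (e + 1)) = 1 := by
        rw [pow_succ t e, pow_mul, ← map_pow, h1, map_one, one_pow]
      rw [h7, mul_pow, inv_pow, h8, h9]
      simp
    have h8 := orderOf_dvd_of_pow_eq_one h5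
    have h9 := orderOf_dvd_of_pow_eq_one h6
    have hco : Nat.Coprime (t ^ (e + 1)) n' :=
      Nat.Coprime.pow_left _ ((Nat.Prime.coprime_iff_not_dvd ht).2 hn')
    exact orderOf_eq_one_iff.1 (Nat.eq_one_of_dvd_coprimes hco h9 h8)
  have hqx : q x = (δ b) ^ m := by
    have h4 : q x * q w = (δ b) ^ m := by rw [← map_mul, h3, hqm]
    rwa [hqw, mul_one] at h4
  have hxbad : Bad α x := by
    by_contra hcon
    have h4 := (hδ x).2 hcon
    rw [hδa, mul_inv_eq_one] at h4
    have hσp : σ ((δ b) ^ m) = (δ b) ^ m := by rw [← hqx, hσ, h4]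
    have hσP : σ (q (b ^ m)) = q (b ^ m) * (δ b) ^ m := by
      rw [hσ, ← map_pow δ b m, hδa]
      simp
    have hit : ∀ i : ℕ, q (α^[i] (b ^ m)) = q (b ^ m) * ((δ b) ^ m) ^ i := by
      intro i
      induction i with
      | zero => simp
      | succ i ih =>
        rw [Function.iterate_succ_apply', ← hσ, ih, map_mul, hσP, map_pow σ, hσp, pow_succ,
          mul_assoc, mul_comm ((δ b) ^ m)]
    have h5 := hit (s ^ k)
    rw [h.pow_eq, left_eq_mul] at h5
    have h6 := orderOf_dvd_of_pow_eq_one h5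
    rw [hp₁] at h6
    have h7 : t ∣ s := ht.dvd_of_dvd_pow h6
    exact hts ((Nat.prime_dvd_prime_iff_eq ht h.hs).1 h7)
  have hcop : ¬ t ∣ Nat.card (commutator A) := hc t ht x e hxbad h1
  have hxt : x ^ t = 1 := by
    apply Free.eq_one_of_mem (commutator A) ht hcop (e := e)
    · rw [← hq, map_pow, hqx, hp₁t]
    · rw [← pow_mul, mul_comm, pow_mul, h1, one_pow]
  refine ⟨m, x, t, ht, hcop, hxt, ?_, ?_, ?_⟩
  · rw [← hq, map_mul, map_inv, hqx, hqm, mul_inv_cancel]
  · rw [← hq, hqx]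
    exact hp₁'
  · intro z hz hxz
    obtain ⟨g, hg⟩ := exists_conj_of_bad h hxbad hz
    have hcomm : Commute x z := by
      show x * z = z * x
      calc x * z = x * z * x⁻¹ * x := by group
        _ = z * x := by rw [hxz]
    have h5 : (x * z) ^ t = 1 := by
      rw [← hg, conj_pow, hxt]
      simp
    rw [hcomm.mul_pow, hxt, one_mul] at h5
    apply Free.eq_one_of_mem (commutator A) ht hcop hz (e := 1)
    rwa [pow_one]

set_option linter.unusedVariables false in
theorem rho_fix_trivial {x : A} {t : ℕ} (ht : t.Prime) (hcop : ¬ t ∣ Nat.card (commutator A))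
    (hx : x ^ t = 1) (hfpf : ∀ z ∈ commutator A, x * z * x⁻¹ = z → z = 1) (l : Sd A)
    (hl : rho x l = l) : l = 1 := by
  have hφ : MonoidHom.FixedPointFree ((conjF x⁻¹ : commutator A ≃* commutator A) :
      commutator A →* commutator A) := by
    intro z hz
    have h1 : x⁻¹ * (z : A) * x⁻¹⁻¹ = z := by
      have := congrArg (Subtype.val) hz
      simpa using this
    apply Subtype.ext
    apply hfpf z z.2
    rw [inv_inv] at h1
    have h3 : x * (z : A) * x⁻¹ = x * (x⁻¹ * (z : A) * x) * x⁻¹ := by rw [h1]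
    rw [h3]
    group
  ext f
  obtain ⟨w, rfl⟩ := hφ.commutatorMap_surjective f
  have h2 : ∀ w, l (conjF x⁻¹ w) = l w := fun w => by
    have := congrArg (fun s => s w) hl
    simpa [rho_apply] using this
  simp [MonoidHom.commutatorMap_apply, map_div, h2]

theorem nilpotent_commutator {x : A} {t : ℕ} (ht : t.Prime) (hx : x ^ t = 1)
    (hfpf : ∀ z ∈ commutator A, x * z * x⁻¹ = z → z = 1) : Group.IsNilpotent (commutator A) := by
  by_cases hbot : commutator A = ⊥
  · rw [hbot]
    infer_instance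
  · have : Fact t.Prime := ⟨ht⟩
    have hpow : (conjF x) ^ t = 1 := by
      show (MulAut.conjNormal x) ^ t = 1
      rw [← map_pow, hx, map_one]
    have hne : conjF x ≠ 1 := by
      intro h1
      obtain ⟨z, hz1⟩ := Subgroup.ne_bot_iff_exists_ne_one.1 hbot
      apply hz1
      apply Subtype.ext
      apply hfpf z z.2
      have h2 := congrArg (fun φ => ((φ z : commutator A) : A)) h1
      simpa using h2
    have hord : orderOf (conjF x) = t := orderOf_eq_prime hpow hne
    refine Cfsg.Agent.S0033.result (conjF x) ?_ t ht hord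
    intro z hz
    apply Subtype.ext
    apply hfpf z z.2
    have := congrArg (Subtype.val) hz
    simpa using this

end Cfsg.Agent.Lib.NoDiv
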