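import Mathlib
import Cfsg.Agent.Lib.NoDiv.ClassTwoDefs
import Cfsg.Agent.Lib.NoDiv.Free

/-!
# Case two, class two: the order of `rho (α g * g⁻¹)` divides `|A''| - 1`
-/

set_option autoImplicit false

namespace Cfsg.Agent.Lib.NoDiv

open Cfsg

universe u

variable {A : Type u} [Group A] [Finite A] {α : A ≃* A}


namespace ClassTwoC

/-- A group acting with all stabilizers in `K`: the index of `K` divides the size of the set. -/
theorem index_dvd_card_of_stabilizer_le {H X : Type*} [Group H] [Finite H] [MulAction H X] [Finite X]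
    (K : Subgroup H) (hst : ∀ x : X, MulAction.stabilizer H x ≤ K) : K.index ∣ Nat.card X := by
  classical
  haveI := Fintype.ofFinite X
  haveI : Fintype (MulAction.orbitRel.Quotient H X) := Fintype.ofFinite _
  rw [Nat.card_congr (MulAction.selfEquivSigmaOrbitsQuotientStabilizer H X), Nat.card_sigma]
  refine Finset.dvd_sum fun ω _ => ?_
  exact Subgroup.index_dvd_of_le (hst _)

/-- Membership in `A'` through the abelianization. -/
theorem mem_commutator_iff_of {x : A} : x ∈ commutator A ↔ Abelianization.of x = 1 := by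
  rw [← MonoidHom.mem_ker, Abelianization.ker_of]

/-- `y ^ n` is congruent to the difference of `g ^ n` modulo `A'`. -/
theorem pow_sub_mem (g : A) (n : ℕ) :
    (α g * g⁻¹) ^ n * (α (g ^ n) * (g ^ n)⁻¹)⁻¹ ∈ commutator A := by
  rw [mem_commutator_iff_of]
  simp only [map_mul, map_pow, map_inv, mul_inv_rev, inv_inv, inv_pow]
  rw [mul_pow]
  simp only [inv_pow, mul_assoc]
  rw [inv_mul_cancel_left, mul_inv_cancel]

/-- The key fact: if a power of `y` fixes a nontrivial element of `A''`, it is in the kernel of `rho`. -/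
theorem rho_pow_eq_one_of_fix {s k : ℕ} (h : MHyp α s k) (hc : CaseTwo α)
    (hnab : commutator A ≠ ⊥) (hcl : ClassTwo A) (g : A) (n : ℕ) {e : A} (he : e ∈ D2 A)
    (he1 : e ≠ 1) (hfix : (α g * g⁻¹) ^ n * e * ((α g * g⁻¹) ^ n)⁻¹ = e) :
    rho ((α g * g⁻¹) ^ n) = 1 := by
  by_contra hne
  set y : A := α g * g⁻¹ with hy
  have hnF : y ^ n ∉ commutator A := fun hmem => hne (rho_eq_one_of_mem hmem)
  have hsub := pow_sub_mem (α := α) g n
  have hbad : Bad α (g ^ n) := by
    intro hmem
    apply hnF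
    have e : y ^ n = (y ^ n * (α (g ^ n) * (g ^ n)⁻¹)⁻¹) * (α (g ^ n) * (g ^ n)⁻¹) := by group
    rw [e]
    exact (commutator A).mul_mem hsub hmem
  obtain ⟨m, x, t, -, -, -, hx, -, hfpf⟩ := exists_fpf h hc hnab hbad hsub
  have hcomm : ∀ j : ℕ, (y ^ n) ^ j * e * ((y ^ n) ^ j)⁻¹ = e := by
    intro j
    induction j with
    | zero => simp
    | succ j ih =>
      rw [pow_succ]
      calc (y ^ n) ^ j * y ^ n * e * ((y ^ n) ^ j * y ^ n)⁻¹
          = (y ^ n) ^ j * (y ^ n * e * (y ^ n)⁻¹) * ((y ^ n) ^ j)⁻¹ := by group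
        _ = e := by rw [hfix, ih]
  have hxe : x * e * x⁻¹ = e := by
    set f : A := x * ((y ^ n) ^ m)⁻¹ with hf
    have hx' : x = f * (y ^ n) ^ m := by rw [hf]; group
    have hfe : e * f = f * e := hcl e he f hx
    calc x * e * x⁻¹ = f * ((y ^ n) ^ m * e * ((y ^ n) ^ m)⁻¹) * f⁻¹ := by rw [hx']; group
      _ = f * e * f⁻¹ := by rw [hcomm]
      _ = e := by rw [← hfe]; group
  exact he1 (hfpf e (D2_le he) hxe)

end ClassTwoC

open ClassTwoC in
theorem rho_pow_card {s k : ℕ} (h : MHyp α s k) (hc : CaseTwo α) (hnab : commutator A ≠ ⊥) (hcl : ClassTwo A) (g : A) : (rho (α g * g⁻¹)) ^ (Nat.card (D2 A)) = rho (α g * g⁻¹) := by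
  classical
  set y : A := α g * g⁻¹ with hy
  let H : Subgroup A := Subgroup.zpowers y
  letI : MulAction H (D2 A) := MulAction.compHom _ ((MulAut.conjNormal (H := D2 A)).comp H.subtype)
  have hsmul : ∀ (u : H) (e : D2 A), ((u • e : D2 A) : A) = (u : A) * e * (u : A)⁻¹ := by
    intro u e
    exact MulAut.conjNormal_apply (u : A) e
  let X : SubMulAction H (D2 A) :=
    { carrier := {e | e ≠ 1}
      smul_mem' := by
        intro u e he hu
        apply he
        apply Subtype.ext
        have h1 := hsmul u e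
        rw [hu] at h1
        have h2 : (u : A) * e * (u : A)⁻¹ = 1 := by simpa using h1.symm
        have h3 : (e : A) = (u : A)⁻¹ * ((u : A) * e * (u : A)⁻¹) * u := by group
        rw [h3, h2]
        simp }
  let K : Subgroup H := (rho.comp H.subtype).ker
  have hKindex : K.index = orderOf (rho y) := by
    rw [Subgroup.index_ker, MonoidHom.range_comp, Subgroup.range_subtype]
    show Nat.card ((Subgroup.zpowers y).map rho) = _
    rw [MonoidHom.map_zpowers, Nat.card_zpowers]
  have hst : ∀ x : X, MulAction.stabilizer H x ≤ K := by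
    intro x u hu
    have hu' : u • (x : D2 A) = x := congrArg Subtype.val hu
    have h1 : (u : A) * (x : D2 A) * (u : A)⁻¹ = (x : D2 A) := by
      rw [← hsmul, hu']
    have hx1 : ((x : D2 A) : A) ≠ 1 := fun h0 => x.2 (Subtype.ext h0)
    obtain ⟨n, hn⟩ : ∃ n : ℕ, y ^ n = (u : A) := by
      have hmem : (u : A) ∈ Submonoid.powers y := mem_powers_iff_mem_zpowers.2 u.2
      obtain ⟨n, hn⟩ := hmem
      exact ⟨n, hn⟩
    rw [← hn] at h1
    have h2 := rho_pow_eq_one_of_fix h hc hnab hcl g n (x : D2 A).2 hx1 h1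
    show rho (u : A) = 1
    rw [← hn]
    exact h2
  have hdvd := index_dvd_card_of_stabilizer_le K hst
  rw [hKindex] at hdvd
  have hcard : Nat.card X + 1 = Nat.card (D2 A) := by
    haveI := Fintype.ofFinite (D2 A)
    have h1 : Nat.card X = Nat.card ({e : D2 A | e ≠ 1} : Set (D2 A)) := rfl
    rw [h1, Nat.card_eq_fintype_card, Set.card_ne_eq, Nat.card_eq_fintype_card]
    have : 0 < Fintype.card (D2 A) := Fintype.card_pos
    omega
  rw [← hcard, pow_succ, orderOf_dvd_iff_pow_eq_one.1 hdvd, one_mul]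

end Cfsg.Agent.Lib.NoDiv
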