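import Mathlib
import Cfsg.Agent.Lib.NoDiv.ClassTwoDefs
import Cfsg.Agent.Lib.NoDiv.Free
import Cfsg.Agent.Lib.Char.Basic

/-!
# Reduction of `D2 A = ⊥` to class two: quotient by `[A'', A']`
-/

set_option autoImplicit false

namespace Cfsg.Agent.Lib.NoDiv

open Cfsg

universe u

variable {A : Type u} [Group A]

namespace QuotP

/-- `N = [A'', A']`. -/
def NN (A : Type u) [Group A] : Subgroup A := ⁅D2 A, commutator A⁆

instance : (NN A).Normal := by unfold NN; infer_instance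

theorem NN_le_D2 : NN A ≤ D2 A := Subgroup.commutator_le_left _ _

theorem NN_le_comm : NN A ≤ commutator A := NN_le_D2.trans D2_le

theorem map_comm_eq (α : A ≃* A) : (commutator A).map α.toMonoidHom = commutator A :=
  Subgroup.characteristic_iff_map_eq.mp inferInstance α

theorem map_D2_eq (α : A ≃* A) : (D2 A).map α.toMonoidHom = D2 A := by
  unfold D2; rw [Subgroup.map_commutator, map_comm_eq]

theorem map_NN_eq (α : A ≃* A) : (NN A).map α.toMonoidHom = NN A := by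
  unfold NN; rw [Subgroup.map_commutator, map_comm_eq, map_D2_eq]

theorem NN_ne_D2 (hnil : Group.IsNilpotent (commutator A)) (hD : D2 A ≠ ⊥) : NN A ≠ D2 A := by
  intro hN
  have key : ∀ n : ℕ, (commutator A).lowerCentralSeries (n + 1) = D2 A := by
    intro n
    induction n with
    | zero => rfl
    | succ n ih =>
      rw [Subgroup.lowerCentralSeries_succ, ih]
      exact hN
  obtain ⟨m, hm⟩ := (Subgroup.isNilpotent_iff_lowerCentralSeries _).1 hnil
  have h2 : (commutator A).lowerCentralSeries (m + 1) = ⊥ :=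
    le_bot_iff.1 (hm ▸ Subgroup.lowerCentralSeries_antitone _ (Nat.le_succ m))
  exact hD ((key m).symm.trans h2)

/-- The quotient map. -/
abbrev pp (A : Type u) [Group A] : A →* A ⧸ NN A := QuotientGroup.mk' (NN A)

theorem pp_surj : Function.Surjective (pp A) := QuotientGroup.mk'_surjective _

/-- The induced automorphism. -/
noncomputable def bt (α : A ≃* A) : (A ⧸ NN A) ≃* (A ⧸ NN A) :=
  QuotientGroup.congr (NN A) (NN A) α (map_NN_eq α)

@[simp] theorem bt_pp (α : A ≃* A) (a : A) : bt α (pp A a) = pp A (α a) := rfl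

theorem bt_iter (α : A ≃* A) (m : ℕ) (a : A) : (bt α)^[m] (pp A a) = pp A (α^[m] a) := by
  induction m with
  | zero => rfl
  | succ m ih => rw [Function.iterate_succ_apply', Function.iterate_succ_apply', ih, bt_pp]

theorem comm_B : commutator (A ⧸ NN A) = (commutator A).map (pp A) := by
  rw [map_commutator_eq, MonoidHom.range_eq_top.2 pp_surj]
  rfl

theorem D2_B : D2 (A ⧸ NN A) = (D2 A).map (pp A) := by
  unfold D2
  rw [Subgroup.map_commutator, comm_B]

theorem pp_mem_comm_iff {x : A} : pp A x ∈ commutator (A ⧸ NN A) ↔ x ∈ commutator A := by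
  rw [comm_B]
  constructor
  · rintro ⟨f, hf, hfx⟩
    have h1 : f⁻¹ * x ∈ NN A := QuotientGroup.eq.1 hfx
    have h2 : x = f * (f⁻¹ * x) := by group
    rw [h2]
    exact (commutator A).mul_mem hf (NN_le_comm h1)
  · intro hx
    exact ⟨x, hx, rfl⟩

theorem classTwo_B : ClassTwo (A ⧸ NN A) := by
  intro e he f hf
  rw [D2_B] at he
  rw [comm_B] at hf
  obtain ⟨e₀, he₀, rfl⟩ := he
  obtain ⟨f₀, hf₀, rfl⟩ := hf
  have h1 : e₀ * f₀ * e₀⁻¹ * f₀⁻¹ ∈ NN A := Subgroup.commutator_mem_commutator he₀ hf₀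
  have h2 : pp A (e₀ * f₀ * e₀⁻¹ * f₀⁻¹) = 1 := (QuotientGroup.eq_one_iff _).2 h1
  have h3 : pp A (e₀ * f₀) = pp A (f₀ * e₀) := by
    have h4 : e₀ * f₀ = (e₀ * f₀ * e₀⁻¹ * f₀⁻¹) * (f₀ * e₀) := by group
    rw [h4, map_mul, h2, one_mul]
  simpa using h3

theorem D2_B_ne (hnil : Group.IsNilpotent (commutator A)) (hD : D2 A ≠ ⊥) : D2 (A ⧸ NN A) ≠ ⊥ := by
  intro h
  rw [D2_B] at h
  apply NN_ne_D2 hnil hD
  apply le_antisymm NN_le_D2
  intro x hx
  have h1 : pp A x ∈ (D2 A).map (pp A) := ⟨x, hx, rfl⟩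
  rw [h] at h1
  exact (QuotientGroup.eq_one_iff _).1 ((Subgroup.mem_bot).1 h1)

/-- Inflation of characters. -/
noncomputable def infl (θ : IrrCharacter (A ⧸ NN A)) : IrrCharacter A :=
  ⟨fun a => (θ : A ⧸ NN A → ℂ) (pp A a),
    Cfsg.Agent.Lib.Char.Basic.isIrrCharacter_comp_surjective θ.2 (pp A) pp_surj⟩

theorem infl_deg (θ : IrrCharacter (A ⧸ NN A)) :
    charDegree ((infl θ : IrrCharacter A) : A → ℂ) = charDegree (θ : A ⧸ NN A → ℂ) := by
  unfold charDegree infl
  simp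

variable [Finite A] {α : A ≃* A} {s k : ℕ}

theorem mHyp_B (h : MHyp α s k) : MHyp (bt α) s k where
  hs := h.hs
  pow_eq := by
    intro x
    obtain ⟨a, rfl⟩ := pp_surj x
    rw [bt_iter, h.pow_eq]
  fix := by
    intro θ hθ x
    obtain ⟨a, rfl⟩ := pp_surj x
    have := h.fix (infl θ) (by rw [infl_deg]; exact hθ) a
    exact this
  ndvd := by
    intro θ hθ
    have := h.ndvd (infl θ) (by rw [infl_deg]; exact hθ)
    rwa [infl_deg] at this
  nodiv := by
    intro θ₁ θ₂ h1 h2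
    have := h.nodiv (infl θ₁) (infl θ₂) (by rw [infl_deg]; exact h1)
      (by rw [infl_deg, infl_deg]; exact h2)
    rwa [infl_deg, infl_deg] at this
  bad := by
    obtain ⟨a, ha⟩ := h.bad
    refine ⟨pp A a, ?_⟩
    intro hcon
    apply ha
    have h1 : bt α (pp A a) * (pp A a)⁻¹ = pp A (α a * a⁻¹) := by
      rw [bt_pp, map_mul, map_inv]
    rw [h1] at hcon
    exact pp_mem_comm_iff.1 hcon

theorem caseTwo_B (hc : CaseTwo α) : CaseTwo (bt α) := by
  intro t ht x n hb hp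
  obtain ⟨a, rfl⟩ := pp_surj x
  let φ : (A ⧸ NN A) →* Abelianization (A ⧸ NN A) :=
    ((Abelianization.of : (A ⧸ NN A) →* Abelianization (A ⧸ NN A)).comp (bt α).toMonoidHom) *
      (Abelianization.of : (A ⧸ NN A) →* Abelianization (A ⧸ NN A))⁻¹
  have hφ : ∀ y, φ y = 1 ↔ ¬ Bad (bt α) y := by
    intro y
    have h1 : φ y = Abelianization.of (bt α y * y⁻¹) := by
      simp [φ, map_mul, map_inv]
    rw [h1, Bad, not_not, ← Abelianization.ker_of, MonoidHom.mem_ker]
  have hN : orderOf a ≠ 0 := (orderOf_pos a).ne'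
  obtain ⟨m, r, hr, hNr⟩ := Nat.exists_eq_pow_mul_and_not_dvd hN t ht.ne_one
  have ha1 : (a ^ r) ^ (t ^ m) = 1 := by
    rw [← pow_mul, mul_comm, ← hNr]
    exact pow_orderOf_eq_one a
  have hbad : Bad α (a ^ r) := by
    intro hcon
    have h1 : φ (pp A (a ^ r)) = 1 := by
      rw [hφ, Bad, not_not]
      have h2 : bt α (pp A (a ^ r)) * (pp A (a ^ r))⁻¹ = pp A (α (a ^ r) * (a ^ r)⁻¹) := by
        rw [bt_pp, map_mul, map_inv]
      rw [h2]
      exact pp_mem_comm_iff.2 hcon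
    rw [map_pow, map_pow] at h1
    have h3 : φ (pp A a) ^ (t ^ n) = 1 := by rw [← map_pow, hp, map_one]
    have hcop : Nat.Coprime r (t ^ n) :=
      Nat.Coprime.pow_right _ ((Nat.Prime.coprime_iff_not_dvd ht).2 hr).symm
    have h4 : orderOf (φ (pp A a)) ∣ 1 := by
      rw [← hcop.gcd_eq_one]
      exact Nat.dvd_gcd (orderOf_dvd_of_pow_eq_one h1) (orderOf_dvd_of_pow_eq_one h3)
    exact (hφ _).1 (orderOf_eq_one_iff.1 (Nat.dvd_one.1 h4)) hb
  have h5 := hc t ht (a ^ r) m hbad ha1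
  intro hdvd
  apply h5
  rw [comm_B] at hdvd
  exact hdvd.trans (Subgroup.card_map_dvd _ _)

end QuotP

open QuotP in
theorem D2_eq_bot_of_class_two {A : Type u} [Group A] [Finite A] {α : A ≃* A} {s k : ℕ}
    (H : ∀ (B : Type u) [Group B] [Finite B] (β : B ≃* B), MHyp β s k → CaseTwo β → ClassTwo B → D2 B ≠ ⊥ → False)
    (h : MHyp α s k) (hc : CaseTwo α) : D2 A = ⊥ := by
  by_contra hD
  have hnab : commutator A ≠ ⊥ := by
    intro hbot
    apply hD
    exact le_bot_iff.1 (hbot ▸ D2_le)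
  obtain ⟨b, hb⟩ := h.bad
  obtain ⟨m, x, t, ht, -, hx, -, -, hfpf⟩ := exists_fpf h hc hnab (b := b) (y := α b * b⁻¹) hb
    (by rw [mul_inv_cancel]; exact (commutator A).one_mem)
  have hnil := nilpotent_commutator ht hx hfpf
  exact H (A ⧸ NN A) (bt α) (mHyp_B h) (caseTwo_B hc) classTwo_B (D2_B_ne hnil hD)

end Cfsg.Agent.Lib.NoDiv
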