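import Mathlib
import Cfsg.Agent.Lib.NoDiv.Defs
import Cfsg.Agent.Lib.NoDiv.Vanish
import Cfsg.Agent.Lib.NoDiv.LemmaX
import Cfsg.Agent.Lib.NoDiv.Free
import Cfsg.Agent.Lib.Char.CliffordCorr
import Cfsg.Agent.Lib.Char.ItoMichler
import Cfsg.Agent.Lib.Char.Values

/-!
# The hypotheses of Lemma X for the dual of the derived subgroup (piece XA)
-/

set_option autoImplicit false
set_option linter.style.haveILetI false
set_option linter.unusedSectionVars false
set_option linter.deprecated false

namespace Cfsg.Agent.Lib.NoDiv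

open Cfsg Cfsg.Agent.Lib.Char Cfsg.Agent.Lib.Char.Basic Cfsg.Agent.Lib.Char.Ortho
  Cfsg.Agent.Lib.Char.Induced Cfsg.Agent.Lib.Char.CliffordCorr Cfsg.Agent.Lib.Char.Clifford
  Cfsg.Agent.Lib.Char.Monomial

universe u

variable {A : Type u} [Group A] [Finite A] {α : A ≃* A} {s k : ℕ}

/-- The complex valued function of an element of the dual. -/
def dualChar (x : Sd A) : (commutator A) → ℂ := fun f => ((x f : ℂˣ) : ℂ)

theorem dualChar_injective : Function.Injective (dualChar (A := A)) := by
  intro x y h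
  ext f
  exact congrFun h f

theorem dualChar_irr (x : Sd A) : IsIrrCharacter (commutator A) (dualChar x) :=
  LinearChars.isIrr_of_hom x

theorem dualChar_rho (g : A) (x : Sd A) : dualChar (rho g x) = conjFun (commutator A) g⁻¹ (dualChar x) := by
  funext f
  show ((x (conjF g⁻¹ f) : ℂˣ) : ℂ) = ((x ⟨g⁻¹ * f * g⁻¹⁻¹, _⟩ : ℂˣ) : ℂ)
  congr 2

theorem dualChar_conj (g : A) (x : Sd A) : conjFun (commutator A) g (dualChar x) = dualChar (rho g⁻¹ x) := by
  rw [dualChar_rho, inv_inv]

/-- An irreducible character over `x`, when `x ≠ 1`, is nonlinear and `α` invariant. -/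
theorem exists_theta [Fintype (commutator A)] (h : MHyp α s k) {x : Sd A} (hx : x ≠ 1) :
    ∃ θ : IrrCharacter A, 1 < charDegree (θ : A → ℂ) ∧
      classInner (fun f : commutator A => (θ : A → ℂ) f) (dualChar x) ≠ 0 := by
  classical
  cases nonempty_fintype A
  obtain ⟨χ, hχ, hne⟩ := ItoMichler.exists_irr_over (commutator A) (dualChar_irr x)
  have hne' : classInner (fun f : commutator A => χ f) (dualChar x) ≠ 0 := by
    first
      | exact hne
      | (intro h0; apply hne; rw [← classInner_conj_symm, h0]; simp)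
  refine ⟨⟨χ, hχ⟩, ?_, hne'⟩
  have hpos := Codegree.charDegree_pos hχ
  by_contra hcon
  have h1 : charDegree χ = 1 := by
    show charDegree χ = 1
    have : ¬ 1 < charDegree χ := hcon
    omega
  have hχc := isCharacter_of_isIrrCharacter hχ
  have h2 : χ 1 = 1 := by
    have := Values.IsCharacter.charDegree_cast hχc
    rw [h1] at this
    simpa using this.symm
  obtain ⟨φ, rfl⟩ := LinearChars.exists_hom_of_isCharacter_one hχc h2
  have h3 : (fun f : commutator A => ((φ (f : A) : ℂˣ) : ℂ)) = fun _ => 1 := by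
    funext f
    have hk : commutator A ≤ φ.ker := by
      rw [commutator_def, Subgroup.commutator_le]
      intro a _ b _
      rw [MonoidHom.mem_ker, commutatorElement_def]
      simp only [map_mul, map_inv]
      rw [mul_comm (φ a) (φ b)]
      group
    have : φ (f : A) = 1 := hk f.2
    rw [this]
    simp
  have h3' : (fun f : commutator A => (fun g => ((φ g : ℂˣ) : ℂ)) (f : A)) = fun _ => 1 := h3
  rw [h3'] at hne'
  apply hne'
  apply classInner_irr_of_ne Burnside2.isIrrCharacter_one (dualChar_irr x)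
  intro h0
  apply hx
  ext f
  have := congrFun h0 f
  simpa [dualChar] using this.symm

/-- The `α` twist of `x` is another constituent. -/
theorem classInner_tau [Fintype (commutator A)] (h : MHyp α s k) (θ : IrrCharacter A) (hθ : 1 < charDegree (θ : A → ℂ))
    (x : Sd A) :
    classInner (fun f : commutator A => (θ : A → ℂ) f) (dualChar (tauS α x)) =
      classInner (fun f : commutator A => (θ : A → ℂ) f) (dualChar x) := by
  classical
  have h1 := classInner_comp_equiv (alphaF α) (fun f : commutator A => (θ : A → ℂ) f)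
    (dualChar (tauS α x))
  rw [← h1]
  congr 1
  · funext f
    exact h.fix θ hθ _
  · funext f
    show ((tauS α x (alphaF α f) : ℂˣ) : ℂ) = ((x f : ℂˣ) : ℂ)
    rw [tauS_apply, MulEquiv.symm_apply_apply]

/-- The orbit of `x` has size dividing the degree of `θ`. -/
theorem orb_card_dvd [Fintype (commutator A)] (θ : IrrCharacter A) {x : Sd A}
    (hne : classInner (fun f : commutator A => (θ : A → ℂ) f) (dualChar x) ≠ 0) :
    Nat.card (orbB (rho (A := A)).range x) ∣ charDegree (θ : A → ℂ) := by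
  classical
  cases nonempty_fintype A
  let ϑ := dualChar x
  have hϑ : IsIrrCharacter (commutator A) ϑ := dualChar_irr x
  let T : Subgroup A := inertiaOf (commutator A) ϑ
  have hT : ∀ g : A, g ∈ T ↔ ∀ n : commutator A,
      ϑ ⟨g * n * g⁻¹, (inferInstance : (commutator A).Normal).conj_mem (n : A) n.2 g⟩ = ϑ n :=
    fun g => mem_inertiaOf (commutator A) ϑ g
  have hcard : Nat.card (orbB (rho (A := A)).range x) = T.index := by
    rw [← ncard_orbitSet (commutator A) ϑ T hT, Nat.card_coe_set_eq]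
    have himg : orbitSet (commutator A) ϑ = dualChar '' orbB (rho (A := A)).range x := by
      ext ψ
      constructor
      · rintro ⟨g, rfl⟩
        refine ⟨rho g⁻¹ x, ⟨_, ⟨g⁻¹, rfl⟩, rfl⟩, ?_⟩
        exact (dualChar_conj g x).symm
      · rintro ⟨y, ⟨_, ⟨g, rfl⟩, rfl⟩, rfl⟩
        exact ⟨g⁻¹, dualChar_rho g x⟩
    rw [himg, Set.ncard_image_of_injective _ dualChar_injective]
  have h1 := apply_one_eq (commutator A) ϑ T hϑ hT θ.2 hne
  obtain ⟨m, hm⟩ := exists_nat_classInner_of_isCharacter
    (isCharacter_restrict (isCharacter_of_isIrrCharacter θ.2) (commutator A))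
    (isCharacter_of_isIrrCharacter hϑ)
  have hϑ1 : ϑ 1 = 1 := by
    show ((x 1 : ℂˣ) : ℂ) = 1
    simp
  rw [hm, hϑ1, mul_one] at h1
  have h2 : charDegree (θ : A → ℂ) = m * T.index := by
    apply Values.IsCharacter.charDegree_eq (Values.IsIrrCharacter.isCharacter θ.2)
    rw [h1]
    push_cast
    ring
  rw [hcard, h2]
  exact dvd_mul_left _ _

theorem iter_alphaF (n : ℕ) (f : commutator A) :
    (((alphaF α)^[n] f : commutator A) : A) = (α^[n]) (f : A) := by
  induction n with
  | zero => rfl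
  | succ n ih =>
    rw [Function.iterate_succ_apply', Function.iterate_succ_apply', alphaF_coe, ih]

theorem tau_pow_apply (n : ℕ) (x : Sd A) (f : commutator A) :
    (((tauS α) ^ n) x) ((alphaF α)^[n] f) = x f := by
  induction n with
  | zero => simp
  | succ n ih =>
    rw [pow_succ', Function.iterate_succ_apply', MulAut.mul_apply, tauS_apply,
      MulEquiv.symm_apply_apply, ih]

theorem xhyp_of_case_two (h : MHyp α s k) (hc : CaseTwo α) (hnab : commutator A ≠ ⊥) :
    XHyp (S := Sd A) (rho (A := A)).range (tauS α) s k := by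
  classical
  letI : Fintype (commutator A) := Fintype.ofFinite _
  -- the common step for `free` and `nontriv`
  have key : ∀ g : A, Bad α g → ∃ (x₀ : A) (t m : ℕ), t.Prime ∧ ¬ t ∣ Nat.card (commutator A) ∧
      x₀ ^ t = 1 ∧ (∀ z ∈ commutator A, x₀ * z * x₀⁻¹ = z → z = 1) ∧
      rho x₀ = rho (α g * g⁻¹) ^ m := by
    intro g hg
    obtain ⟨m, x₀, t, ht, hcop, hx₀, hmem, -, hfpf⟩ :=
      exists_fpf h hc hnab (b := g) (y := α g * g⁻¹) hg
        (by rw [mul_inv_cancel]; exact Subgroup.one_mem _)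
    refine ⟨x₀, t, m, ht, hcop, hx₀, hfpf, ?_⟩
    have h1 := rho_eq_one_of_mem hmem
    rw [map_mul, map_inv, map_pow] at h1
    exact mul_inv_eq_one.1 h1
  have hP : ∀ g : A, tauS α * rho g * (tauS α)⁻¹ * (rho g)⁻¹ = rho (α g * g⁻¹) := by
    intro g
    rw [tau_rho, map_mul, map_inv]
  refine ⟨h.hs, ?_, ?_, ?_, ?_, ?_, ?_, ?_⟩
  · rintro _ ⟨g, rfl⟩ _ ⟨g', rfl⟩
    exact rho_comm g g'
  · ext x f
    have h1 := tau_pow_apply (α := α) (s ^ k) x f
    have h2 : (alphaF α)^[s ^ k] f = f := by
      apply Subtype.ext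
      rw [iter_alphaF]
      exact h.pow_eq f
    rw [h2] at h1
    rw [h1]
    rfl
  · rintro _ ⟨g, rfl⟩
    exact ⟨α g, (tau_rho α g).symm⟩
  · intro x hx
    obtain ⟨θ, hθ, hne⟩ := exists_theta h hx
    cases nonempty_fintype A
    have hne2 : classInner (fun f : commutator A => (θ : A → ℂ) f) (dualChar (tauS α x)) ≠ 0 := by
      rw [classInner_tau h θ hθ x]; exact hne
    obtain ⟨g, hg⟩ := exists_conj_of_classInner_ne_zero (commutator A) θ.2 (dualChar_irr x)
      (dualChar_irr (tauS α x)) hne hne2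
    refine ⟨rho g⁻¹, ⟨g⁻¹, rfl⟩, ?_⟩
    apply dualChar_injective
    rw [hg, dualChar_conj]
  · intro x hx hdvd
    obtain ⟨θ, hθ, hne⟩ := exists_theta h hx
    exact h.ndvd θ hθ (hdvd.trans (orb_card_dvd θ hne))
  · rintro p ⟨_, ⟨g, rfl⟩, rfl⟩ x hx hpx
    rw [hP] at hpx ⊢
    by_contra hp1
    have hbad : Bad α g := fun hmem => hp1 (rho_eq_one_of_mem hmem)
    obtain ⟨x₀, t, m, ht, hcop, hx₀, hfpf, hrho⟩ := key g hbad
    apply hx
    apply rho_fix_trivial ht hcop hx₀ hfpf
    rw [hrho]
    have : ∀ n : ℕ, (rho (α g * g⁻¹) ^ n) x = x := by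
      intro n
      induction n with
      | zero => simp
      | succ n ih => rw [pow_succ, MulAut.mul_apply, hpx, ih]
    exact this m
  · obtain ⟨b, hb⟩ := h.bad
    refine ⟨rho (α b * b⁻¹), ⟨_, ⟨b, rfl⟩, (hP b).symm⟩, ?_⟩
    intro h1
    obtain ⟨x₀, t, m, ht, hcop, hx₀, hfpf, hrho⟩ := key b hb
    have hnil : Group.IsNilpotent (commutator A) := nilpotent_commutator ht hx₀ hfpf
    -- a nontrivial linear character of `A'`
    have hnt : Nontrivial (commutator A) := (Subgroup.nontrivial_iff_ne_bot _).2 hnab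
    have hne : commutator (commutator A) ≠ ⊤ := by
      haveI := hnil
      exact lt_top_iff_ne_top.1 (IsSolvable.commutator_lt_top_of_nontrivial _)
    obtain ⟨z, hz⟩ : ∃ z : commutator A, z ∉ commutator (commutator A) := by
      by_contra hcon
      push Not at hcon
      exact hne (eq_top_iff.2 (fun y _ => hcon y))
    obtain ⟨l, hl⟩ := PDerived.exists_lin_ne_one hz
    have hl1 : l = 1 := by
      apply rho_fix_trivial ht hcop hx₀ hfpf
      rw [hrho, h1, one_pow]
      rfl
    apply hl
    rw [hl1]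
    rfl

end Cfsg.Agent.Lib.NoDiv
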