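import Mathlib
import Cfsg.Agent.Lib.NoDiv.Defs
import Cfsg.Agent.Lib.NoDiv.StructDefs
import Cfsg.Agent.Lib.NoDiv.LemmaX
import Cfsg.Agent.Lib.NoDiv.Free
import Cfsg.Agent.Lib.NoDiv.XHypA

/-!
# The structure in case two (piece SX)
-/

set_option autoImplicit false
set_option linter.style.haveILetI false

namespace Cfsg.Agent.Lib.NoDiv

open Cfsg Cfsg.Agent.Lib.Char

universe u

theorem exists_struct {A : Type u} [Group A] [Finite A] {α : A ≃* A} {s k : ℕ} (h : MHyp α s k)
    (hc : CaseTwo α) (hnab : commutator A ≠ ⊥) : ∃ r : ℕ, Struct α r := by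
  classical
  have X := xhyp_of_case_two h hc hnab
  obtain ⟨r, hr, hexp⟩ := X_elem X
  haveI : Fact r.Prime := ⟨hr⟩
  refine ⟨r, hr, ?_, hexp, ?_, ?_, ?_, ?_⟩
  · -- the derived subgroup is an `r`-group
    obtain ⟨b, hb⟩ := h.bad
    obtain ⟨m, x, t, ht, -, hx, -, -, hfpf⟩ :=
      exists_fpf h hc hnab (b := b) (y := α b * b⁻¹) hb
        (by rw [mul_inv_cancel]; exact Subgroup.one_mem _)
    have hnil : Group.IsNilpotent (commutator A) := nilpotent_commutator ht hx hfpf
    haveI := hnil
    let P : Sylow r (commutator A) := default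
    have hPn : (P : Subgroup (commutator A)).Normal := by
      have h0 := ((isNilpotent_of_finite_tfae (G := commutator A)).out 0 3).1 hnil
      exact h0 r inferInstance P
    haveI := hPn
    let Q₀ := (commutator A) ⧸ (P : Subgroup (commutator A))
    have hsub : Subsingleton Q₀ := by
      by_contra hns
      rw [not_subsingleton_iff_nontrivial] at hns
      haveI := hns
      haveI : Group.IsSolvable Q₀ :=
        inferInstanceAs (Group.IsSolvable ((commutator A) ⧸ (P : Subgroup (commutator A))))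
      have hlt : commutator Q₀ ≠ ⊤ :=
        lt_top_iff_ne_top.1 (IsSolvable.commutator_lt_top_of_nontrivial _)
      obtain ⟨z, hz⟩ : ∃ z : Q₀, z ∉ commutator Q₀ := by
        by_contra hcon
        push Not at hcon
        exact hlt (eq_top_iff.2 (fun y _ => hcon y))
      obtain ⟨l, hl⟩ := PDerived.exists_lin_ne_one hz
      obtain ⟨z₀, rfl⟩ := QuotientGroup.mk'_surjective (P : Subgroup (commutator A)) z
      let l₀ : Sd A := l.comp (QuotientGroup.mk' (P : Subgroup (commutator A)))
      have h1 : (l (QuotientGroup.mk' (P : Subgroup (commutator A)) z₀)) ^ r = 1 := by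
        have h0 := DFunLike.congr_fun (hexp l₀) z₀
        rw [MonoidHom.pow_apply] at h0
        exact h0
      have h2 : (l (QuotientGroup.mk' (P : Subgroup (commutator A)) z₀)) ^ Nat.card Q₀ = 1 := by
        rw [← map_pow, pow_card_eq_one', map_one]
      have hcop : Nat.Coprime r (Nat.card Q₀) :=
        (Nat.Prime.coprime_iff_not_dvd hr).2 P.not_dvd_index
      have h3 : orderOf (l (QuotientGroup.mk' (P : Subgroup (commutator A)) z₀)) = 1 :=
        Nat.eq_one_of_dvd_coprimes hcop (orderOf_dvd_of_pow_eq_one h1) (orderOf_dvd_of_pow_eq_one h2)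
      exact hl (orderOf_eq_one_iff.1 h3)
    have htop : (P : Subgroup (commutator A)) = ⊤ := by
      rw [← Subgroup.index_eq_one]
      exact Nat.card_eq_one_iff_unique.2 ⟨hsub, ⟨1⟩⟩
    intro f
    have hf : f.1 ∈ commutator A := f.2
    obtain ⟨n, hn⟩ := P.isPGroup' ⟨f, by rw [htop]; exact Subgroup.mem_top _⟩
    exact ⟨n, by simpa using congrArg Subtype.val hn⟩
  · exact LemmaX.exists_ne_one X
  · intro g x hx hg
    exact X_stab X ⟨g, rfl⟩ hx hg
  · intro U hU
    refine X_irred X U ?_
    rintro p ⟨_, ⟨g, rfl⟩, rfl⟩ u hu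
    have e : tauS α * rho g * (tauS α)⁻¹ * (rho g)⁻¹ = rho (α g * g⁻¹) := by
      rw [tau_rho, map_mul, map_inv]
    rw [show (tauS α * rho g * (tauS α)⁻¹ * (rho g)⁻¹) = rho (α g * g⁻¹) from e]
    exact hU g u hu
  · intro hd
    rw [Subgroup.index_ker] at hd
    exact X_cop X hr hexp hd

end Cfsg.Agent.Lib.NoDiv
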