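import Mathlib
import Cfsg.Agent.Lib.NoDiv.Defs
import Cfsg.Agent.Lib.NoDiv.Vanish
import Cfsg.Agent.Lib.NoDiv.CaseOne
import Cfsg.Agent.Lib.NoDiv.FieldBound
import Cfsg.Agent.Lib.NoDiv.Free
import Cfsg.Agent.Lib.NoDiv.Struct
import Cfsg.Agent.Lib.NoDiv.StructX
import Cfsg.Agent.Lib.NoDiv.ClassTwoA
import Cfsg.Agent.Lib.NoDiv.ClassTwoB
import Cfsg.Agent.Lib.NoDiv.ClassTwoC
import Cfsg.Agent.Lib.NoDiv.Quot
import Cfsg.Agent.S4456
import Cfsg.Agent.Lib.Char.FrobPair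

/-!
# The main theorem on automorphisms fixing all nonlinear characters
-/

set_option autoImplicit false
set_option linter.style.haveILetI false

namespace Cfsg.Agent.Lib.NoDiv

open Cfsg

universe u

/-- The fpf element from `MHyp`. -/
theorem exists_fpf_elt {A : Type u} [Group A] [Finite A] {α : A ≃* A} {s k : ℕ} (h : MHyp α s k)
    (hc : CaseTwo α) (hnab : commutator A ≠ ⊥) :
    ∃ (x : A) (t : ℕ), t.Prime ∧ ¬ t ∣ Nat.card (commutator A) ∧ x ^ t = 1 ∧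
      ∀ z ∈ commutator A, x * z * x⁻¹ = z → z = 1 := by
  obtain ⟨b, hb⟩ := h.bad
  have hy : (α b * b⁻¹) * (α b * b⁻¹)⁻¹ ∈ commutator A := by
    rw [mul_inv_cancel]; exact Subgroup.one_mem _
  obtain ⟨m, x, t, ht, hcop, hx, -, -, hfpf⟩ := exists_fpf h hc hnab hb hy
  exact ⟨x, t, ht, hcop, hx, hfpf⟩

theorem hJ_of {A : Type u} [Group A] [Finite A] {α : A ≃* A} {s k : ℕ} (h : MHyp α s k)
    (hc : CaseTwo α) (hnab : commutator A ≠ ⊥) :
    ∀ j₁ j₂ : A, rho j₁ = 1 → rho j₂ = 1 → j₁ * j₂ * j₁⁻¹ * j₂⁻¹ ∈ D2 A := by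
  obtain ⟨x, t, ht, hcop, hx, hfpf⟩ := exists_fpf_elt h hc hnab
  intro j₁ j₂ h₁ h₂
  exact comm_ker_le ht hcop hx hfpf h₁ h₂

/-- The class two case is contradictory. -/
theorem class_two_false {A : Type u} [Group A] [Finite A] {α : A ≃* A} {s k : ℕ} (h : MHyp α s k)
    (hc : CaseTwo α) (hcl : ClassTwo A) (hD : D2 A ≠ ⊥) : False := by
  have hnab : commutator A ≠ ⊥ := by
    intro hF
    apply hD
    rw [eq_bot_iff]
    have h1 : D2 A ≤ commutator A := D2_le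
    rwa [hF] at h1
  obtain ⟨r, st⟩ := exists_struct h hc hnab
  have hJ := hJ_of h hc hnab
  have hdeg : ∃ θ : IrrCharacter A, 1 < charDegree (θ : A → ℂ) ∧
      charDegree (θ : A → ℂ) = (rho (A := A)).ker.index := by
    obtain ⟨θ, h1, h2⟩ := exists_degree_index st hJ
    exact ⟨θ, h1, degree_eq_index st hJ θ h1 h2⟩
  have hR : ∀ μ : D2 A →* ℂˣ, μ ≠ 1 → ∀ z ∈ Rmu hcl μ, (z : A) ∈ D2 A := by
    intro μ hμ z hz
    refine Rmu_le_of_unique hcl ?_ z hz
    intro ζ₁ ζ₂ h₁ h₂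
    obtain ⟨g₁, hg₁, hc₁, hf₁⟩ := exists_fixing h st hcl hdeg hμ ζ₁ h₁
    obtain ⟨g₂, hg₂, hc₂, hf₂⟩ := exists_fixing h st hcl hdeg hμ ζ₂ h₂
    exact ext_unique st hcl ζ₁ ζ₂ h₁ h₂ hg₁ hg₂ hc₁ hc₂ hf₁ hf₂
  have hne : D2 A ≠ commutator A := by
    obtain ⟨l, hl⟩ := st.nt
    intro hEq
    apply hl
    ext f
    have hf : (f : A) ∈ D2 A := by rw [hEq]; exact f.2
    -- characters of `A'` are trivial on `A''`
    have hle : D2 A ≤ ((l.ker).map (commutator A).subtype) := by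
      unfold D2
      rw [Subgroup.commutator_le]
      intro a ha b hb
      refine ⟨⟨a, ha⟩ * ⟨b, hb⟩ * (⟨a, ha⟩ : commutator A)⁻¹ * (⟨b, hb⟩ : commutator A)⁻¹, ?_, rfl⟩
      rw [SetLike.mem_coe, MonoidHom.mem_ker]
      rw [map_mul, map_mul, map_mul, map_inv, map_inv]
      rw [mul_comm (l ⟨a, ha⟩), mul_assoc (l ⟨b, hb⟩), mul_inv_cancel, mul_one, mul_inv_cancel]
    obtain ⟨w, hw, hwf⟩ := hle hf
    have : w = f := Subtype.ext hwf
    rw [← this]
    simpa using congrArg Units.val (MonoidHom.mem_ker.1 hw)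
  have hlt := card_D2_lt hcl hR hne
  -- `|A''|` is a power of `r`
  haveI : Fact r.Prime := ⟨st.hr⟩
  have hpE : IsPGroup r (D2 A) := by
    have h1 : IsPGroup r (commutator A) := st.pF
    intro e
    obtain ⟨n, hn⟩ := h1 ⟨e, D2_le e.2⟩
    refine ⟨n, ?_⟩
    apply Subtype.ext
    have h2 := congrArg Subtype.val hn
    simpa using h2
  obtain ⟨c, hc'⟩ := IsPGroup.iff_card.mp hpE
  have hc0 : 0 < c := by
    rcases Nat.eq_zero_or_pos c with rfl | h0
    · exfalso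
      apply hD
      have h1 : Nat.card (D2 A) = 1 := by simpa using hc'
      exact Subgroup.card_eq_one.mp h1
    · exact h0
  let P : Set (MulAut (Sd A)) := {p | ∃ g : A, p = rho (α g * g⁻¹)}
  have hP1 : (1 : MulAut (Sd A)) ∈ P := ⟨1, by simp⟩
  have hPm : ∀ a ∈ P, ∀ b ∈ P, a * b ∈ P := by
    rintro _ ⟨g, rfl⟩ _ ⟨g', rfl⟩
    refine ⟨g * g', ?_⟩
    simp only [map_mul, map_inv]
    have := rho_comm (α g') g
    have h2 := rho_comm g'⁻¹ g⁻¹
    simp only [mul_inv_rev, map_mul, map_inv] at *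
    -- all of `rho A` commutes
    have hc3 : ∀ x y : A, rho x * rho y = rho y * rho x := rho_comm
    calc rho (α g) * (rho g)⁻¹ * (rho (α g') * (rho g')⁻¹)
        = rho (α g) * ((rho g)⁻¹ * rho (α g')) * (rho g')⁻¹ := by group
      _ = rho (α g) * (rho (α g') * (rho g)⁻¹) * (rho g')⁻¹ := by
          congr 2
          rw [← map_inv, hc3]
      _ = rho (α g) * rho (α g') * ((rho g)⁻¹ * (rho g')⁻¹) := by group
      _ = _ := by
          rw [← map_inv, ← map_inv, hc3 g⁻¹ g'⁻¹]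
  have hPc : ∀ a ∈ P, ∀ b ∈ P, a * b = b * a := by
    rintro _ ⟨g, rfl⟩ _ ⟨g', rfl⟩
    exact rho_comm _ _
  have hle := card_le_of_irred_pow P hP1 hPm hPc st.hr st.exp
    (fun U hU => st.irr U (fun g u hu => hU (rho (α g * g⁻¹)) ⟨g, rfl⟩ u hu))
    (by
      rintro _ ⟨g, rfl⟩
      have := rho_pow_card h hc hnab hcl g
      rwa [hc'] at this)
    hc0
  rw [hc'] at hlt
  omega

/-- **Theorem M.** -/
theorem thmM {A : Type u} [Group A] [Finite A] {α : A ≃* A} {s k : ℕ} (h : MHyp α s k)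
    (θ₁ θ₂ : IrrCharacter A) (h₁ : 1 < charDegree (θ₁ : A → ℂ))
    (h₂ : 1 < charDegree (θ₂ : A → ℂ)) : charDegree (θ₁ : A → ℂ) = charDegree (θ₂ : A → ℂ) := by
  classical
  have hnab : commutator A ≠ ⊥ := by
    intro hF
    have hcomm : ∀ a b : A, a * b = b * a := by
      intro a b
      have h2 : a * b * a⁻¹ * b⁻¹ ∈ commutator A :=
        Subgroup.commutator_mem_commutator (Subgroup.mem_top a) (Subgroup.mem_top b)
      rw [hF, Subgroup.mem_bot] at h2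
      calc a * b = a * b * a⁻¹ * b⁻¹ * (b * a) := by group
        _ = b * a := by rw [h2, one_mul]
    have h3 := Cfsg.Agent.Lib.Char.FrobPair.degree_eq_one_of_comm hcomm θ₁.2
    have h4 : charDegree (θ₁ : A → ℂ) = 1 := by
      unfold charDegree
      rw [h3]
      simp
    omega
  by_cases hc : CaseTwo α
  · have hD : D2 A = ⊥ := D2_eq_bot_of_class_two
      (fun B _ _ β hβ hcβ hclβ hDβ => class_two_false hβ hcβ hclβ hDβ) h hc
    obtain ⟨r, st⟩ := exists_struct h hc hnab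
    have hJ := hJ_of h hc hnab
    have htriv : ∀ (θ : IrrCharacter A), ∀ f ∈ D2 A, (θ : A → ℂ) f = (θ : A → ℂ) 1 := by
      intro θ f hf
      rw [hD, Subgroup.mem_bot] at hf
      rw [hf]
    rw [degree_eq_index st hJ θ₁ h₁ (htriv θ₁), degree_eq_index st hJ θ₂ h₂ (htriv θ₂)]
  · unfold CaseTwo at hc
    push Not at hc
    obtain ⟨t, ht, a, n, hb, hpow, htF⟩ := hc
    have hdeg : ∀ χ : IrrCharacter A, charDegree (χ : A → ℂ) ≠ 1 → t ∣ charDegree (χ : A → ℂ) := by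
      intro χ hχ
      refine prime_dvd_degree h ht hb hpow χ ?_
      have h0 : charDegree (χ : A → ℂ) ≠ 0 := by
        intro h0
        have h1 := Cfsg.Agent.Lib.Char.Values.IsCharacter.charDegree_cast
          (Cfsg.Agent.Lib.Char.Values.IsIrrCharacter.isCharacter χ.2)
        rw [h0] at h1
        exact Cfsg.Agent.Lib.Char.Ortho.irr_apply_one_ne_zero χ.2 (by simpa using h1.symm)
      omega
    obtain ⟨W, hW, hcop, hidx⟩ := Cfsg.Agent.S4456.result t ht hdeg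
    haveI := hW
    refine degrees_eq_of_top W ht hcop hidx ?_ h.nodiv θ₁ θ₂ h₁ h₂
    intro hle
    have h3 : Nat.card (commutator A) ∣ Nat.card W := Subgroup.card_dvd_of_le hle
    have h4 : t ∣ Nat.card W := htF.trans h3
    exact ((Nat.Prime.coprime_iff_not_dvd ht).1 hcop.symm) h4

end Cfsg.Agent.Lib.NoDiv
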