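import Mathlib
import Cfsg.Agent.Lib.NoDiv.Main
import Cfsg.Agent.Lib.NoDiv.StrongNC
import Cfsg.Agent.Lib.Char.ItoMichler
import Cfsg.Agent.S4811

/-!
# The top level of the no-divisibility theorem
-/

set_option autoImplicit false
set_option linter.style.haveILetI false

namespace Cfsg.Agent.Lib.NoDiv

open Cfsg Cfsg.Agent.Lib.Char Cfsg.Agent.Lib.Char.Basic Cfsg.Agent.Lib.Char.ThreeDeg
open Cfsg.Agent.Lib.Char.Monomial Cfsg.Agent.Lib.Char.PDerived Cfsg.Agent.Lib.Char.Clifford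
  Cfsg.Agent.Lib.Char.GoingDown Cfsg.Agent.Lib.Char.CliffordCorr Cfsg.Agent.Lib.Char.PrimeIndex
open scoped commutatorElement

universe u

theorem degree_pos' {G : Type u} [Group G] [Finite G] (χ : IrrCharacter G) :
    0 < charDegree (χ : G → ℂ) := by
  rw [Nat.pos_iff_ne_zero]
  intro h0
  have h1 := Values.IsCharacter.charDegree_cast (Values.IsIrrCharacter.isCharacter χ.2)
  rw [h0] at h1
  exact Ortho.irr_apply_one_ne_zero χ.2 (by simpa using h1.symm)

theorem one_mem_degrees (G : Type u) [Group G] [Finite G] : 1 ∈ charDegrees G := by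
  haveI : Fintype G := Fintype.ofFinite _
  have h := LinearChars.isIrr_of_hom (1 : G →* ℂˣ)
  refine ⟨⟨_, h⟩, ?_⟩
  apply Values.IsCharacter.charDegree_eq (Values.IsIrrCharacter.isCharacter h)
  simp

/-- The pull-back of the noncentral data. -/
theorem nc_setup {G H : Type u} [Group G] [Fintype G] [Group H] [Fintype H] (π : G →* H)
    (hπ : Function.Surjective π) (hne : commutator H ≠ ⊥)
    (hV : ∀ a ∈ commutator H, ∀ b ∈ commutator H, a * b = b * a)
    (hmin : ∀ L : Subgroup H, L.Normal → L ≤ commutator H → L = ⊥ ∨ L = commutator H)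
    (hnc : ¬ commutator H ≤ Subgroup.center H) {p : ℕ} (hp : p.Prime)
    (hexp : ∀ v ∈ commutator H, v ^ p = 1) :
    ∃ (A : Subgroup G) (hAn : A.Normal) (μ : A →* ℂˣ), IsCyclic (G ⧸ A) ∧ ¬ p ∣ A.index ∧ A ≠ ⊤ ∧
      (∀ u, u ∉ A → ∃ v : A, μ ⟨u * v * u⁻¹, hAn.conj_mem v v.2 u⟩ ≠ μ v) ∧
      ∀ (u : G) (a : A), (μ ⟨u * a * u⁻¹, hAn.conj_mem a a.2 u⟩ * (μ a)⁻¹) ^ p = 1 := by
  classical
  obtain ⟨C, hC, μ₀, hVC, hcyc, hpC, hCtop, hμ₀, hν₀⟩ := nc_data hV hmin hne hnc hp hexp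
  let A : Subgroup G := C.comap π
  haveI hAn : A.Normal := hC.comap π
  have hAidx : A.index = C.index := Subgroup.index_comap_of_surjective _ hπ
  have hcycA : IsCyclic (G ⧸ A) := by
    let φ : G →* H ⧸ C := (QuotientGroup.mk' C).comp π
    have hle : A ≤ φ.ker := by
      intro x hx
      rw [MonoidHom.mem_ker]
      exact (QuotientGroup.eq_one_iff _).2 hx
    let φ' : G ⧸ A →* H ⧸ C := QuotientGroup.lift _ φ hle
    refine isCyclic_of_injective φ' ?_
    rw [injective_iff_map_eq_one]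
    intro y hy
    obtain ⟨x, rfl⟩ := QuotientGroup.mk_surjective y
    have h1 : φ x = 1 := hy
    rw [QuotientGroup.eq_one_iff]
    exact (QuotientGroup.eq_one_iff (π x)).1 h1
  let e : A →* C :=
    { toFun := fun n => ⟨π (n : G), n.2⟩
      map_one' := Subtype.ext (map_one π)
      map_mul' := fun x y => Subtype.ext (map_mul π (x : G) (y : G)) }
  let μ : A →* ℂˣ := μ₀.comp e
  have hν : ∀ (u : G) (a : A), (μ ⟨u * a * u⁻¹, hAn.conj_mem a a.2 u⟩ * (μ a)⁻¹) ^ p = 1 := by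
    intro u a
    have h1 := hν₀ (π u) (e a)
    have h2 : (⟨π u * (e a : H) * (π u)⁻¹, hC.conj_mem (e a) (e a).2 (π u)⟩ : C) =
        e ⟨u * a * u⁻¹, hAn.conj_mem a a.2 u⟩ := by
      apply Subtype.ext
      show π u * π (a : G) * (π u)⁻¹ = π (u * a * u⁻¹)
      simp
    rw [h2] at h1
    exact h1
  have hμ : ∀ u : G, u ∉ A → ∃ v : A, μ ⟨u * v * u⁻¹, hAn.conj_mem v v.2 u⟩ ≠ μ v := by
    intro u hu
    obtain ⟨⟨v, hv⟩, hne'⟩ := hμ₀ (π u) hu
    obtain ⟨x, rfl⟩ := hπ v
    refine ⟨⟨x, hv⟩, ?_⟩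
    show μ₀ (e _) ≠ μ₀ (e _)
    convert hne' using 2
    apply Subtype.ext
    show π (u * x * u⁻¹) = _
    simp
    rfl
  refine ⟨A, hAn, μ, hcycA, ?_, ?_, hμ, hν⟩
  · rw [hAidx]; exact hpC
  · intro h
    apply hCtop
    have h1 : A.index = 1 := by rw [h]; exact Subgroup.index_top
    rw [hAidx] at h1
    exact Subgroup.index_eq_one.1 h1

/-- Every vertex reaches the others. -/
theorem card_le_one_of_reach {V : Type*} (Γ : SimpleGraph V) (h : ∀ v w, Γ.Reachable v w) :
    Nat.card Γ.ConnectedComponent ≤ 1 := by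
  classical
  haveI : Subsingleton Γ.ConnectedComponent := by
    constructor
    intro c d
    induction c using SimpleGraph.ConnectedComponent.ind with
    | h v =>
      induction d using SimpleGraph.ConnectedComponent.ind with
      | h w => exact SimpleGraph.ConnectedComponent.sound (h v w)
  exact Finite.card_le_one_iff_subsingleton.mpr inferInstance

/-- The central case: a prime in all nonlinear degrees makes the graph connected. -/
theorem reach_of_all_dvd {G : Type u} [Group G] [Finite G] {p : ℕ} (hp : p.Prime)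
    (h : ∀ d ∈ charDegrees G, d ≠ 1 → p ∣ d) (v w : degreePrimes G) :
    ((degreeGraph G).induce (degreePrimes G)).Reachable v w := by
  obtain ⟨a, ha, d₁, hd₁, hvd⟩ := v
  obtain ⟨b, hb, d₂, hd₂, hwd⟩ := w
  have h1 : d₁ ≠ 1 := by
    rintro rfl
    exact ha.one_lt.ne' (Nat.dvd_one.1 hvd)
  have h2 : d₂ ≠ 1 := by
    rintro rfl
    exact hb.one_lt.ne' (Nat.dvd_one.1 hwd)
  have hp1 := h d₁ hd₁ h1
  have hp2 := h d₂ hd₂ h2
  let P : degreePrimes G := ⟨p, hp, d₁, hd₁, hp1⟩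
  exact (Cfsg.Agent.S4811.reach_of_dvd hd₁ ⟨a, ha, d₁, hd₁, hvd⟩ P hvd hp1).trans
    (Cfsg.Agent.S4811.reach_of_dvd hd₂ P ⟨b, hb, d₂, hd₂, hwd⟩ hp2 hwd)

/-- The noncentral case. -/
theorem nc_main {G : Type u} [Group G] [Fintype G]
    (hnd : ∀ a ∈ charDegrees G, ∀ b ∈ charDegrees G, 1 < a → a < b → ¬ a ∣ b)
    (hnr : ¬ ∀ v w : degreePrimes G, ((degreeGraph G).induce (degreePrimes G)).Reachable v w)
    (A : Subgroup G) [hA : A.Normal] (μ : A →* ℂˣ) {q : ℕ} (hq : q.Prime)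
    (hcyc : IsCyclic (G ⧸ A)) (hqf : ¬ q ∣ A.index) (hAtop : A ≠ ⊤)
    (hμ : ∀ u, u ∉ A → ∃ v : A, μ ⟨u * v * u⁻¹, hA.conj_mem v v.2 u⟩ ≠ μ v)
    (hν : ∀ (u : G) (a : A), (μ ⟨u * a * u⁻¹, hA.conj_mem a a.2 u⟩ * (μ a)⁻¹) ^ q = 1) :
    Nat.card ↥(charDegrees G) = 3 := by
  classical
  haveI : Fintype A := Fintype.ofFinite _
  set f := A.index with hf
  have hf1 : 1 < f := by
    have h1 : f ≠ 1 := fun h => hAtop (Subgroup.index_eq_one.1 h)
    have h0 : f ≠ 0 := Subgroup.index_ne_zero_of_finite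
    omega
  have hfD : f ∈ charDegrees G := (nc_key A hcyc μ hq hν hμ).1
  -- `q'`-degrees of `A` are linear
  have hL : ∀ τ : IrrCharacter A, ¬ q ∣ charDegree (τ : A → ℂ) → charDegree (τ : A → ℂ) = 1 := by
    intro τ hτ
    obtain ⟨χ, hχ⟩ := strong_nc A hcyc μ hq hν hμ τ.2 hτ
    have hd := degree_pos' τ
    by_contra hne
    have h2 : 2 ≤ charDegree (τ : A → ℂ) := by omega
    have h3 : f < f * charDegree (τ : A → ℂ) := by nlinarith
    exact hnd f hfD _ ⟨χ, hχ⟩ hf1 h3 (Dvd.intro _ rfl)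
  -- the characters of `A` under a character of `G`
  have hO : ∀ χ : IrrCharacter G, ∃ τ : IrrCharacter A,
      charDegree (χ : G → ℂ) = (inertiaOf A (τ : A → ℂ)).index * charDegree (τ : A → ℂ) := by
    intro χ
    have hresc : IsCharacter A (fun a : A => (χ : G → ℂ) a) :=
      isCharacter_restrict (isCharacter_of_isIrrCharacter χ.2) A
    have h1 : (fun a : A => (χ : G → ℂ) a) 1 ≠ 0 := by
      show (χ : G → ℂ) ((1 : A) : G) ≠ 0
      rw [Subgroup.coe_one]
      exact Ortho.irr_apply_one_ne_zero χ.2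
    obtain ⟨τ, hτ, hne⟩ := exists_irr_constituent hresc h1
    have hdeg := degree_over_cyclic A hcyc hτ χ.2 hne
    have hτd : τ 1 = charDegree τ := (Values.IsCharacter.charDegree_cast
      (Values.IsIrrCharacter.isCharacter hτ)).symm
    refine ⟨⟨τ, hτ⟩, ?_⟩
    apply Values.IsCharacter.charDegree_eq (Values.IsIrrCharacter.isCharacter χ.2)
    rw [hdeg, hτd]
    push_cast
    rfl
  have hT : ∀ τ : IrrCharacter A, (inertiaOf A (τ : A → ℂ)).index ∣ f := fun τ =>
    Subgroup.index_dvd_of_le (le_inertiaOf A (isCharacter_of_isIrrCharacter τ.2))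
  -- nonlinear `q'`-degrees are `f`
  have hD1 : ∀ d ∈ charDegrees G, d ≠ 1 → ¬ q ∣ d → d = f := by
    rintro d ⟨χ, rfl⟩ hd1 hqd
    obtain ⟨τ, hτ⟩ := hO χ
    have h1 : ¬ q ∣ charDegree (τ : A → ℂ) := fun h => hqd (by rw [hτ]; exact Dvd.dvd.mul_left h _)
    have h2 := hL τ h1
    rw [h2, mul_one] at hτ
    have h3 : charDegree (χ : G → ℂ) ∣ f := by rw [hτ]; exact hT τ
    have h4 := degree_pos' χ
    have h5 : 1 < charDegree (χ : G → ℂ) := by omega
    by_contra hne
    have h6 : charDegree (χ : G → ℂ) < f :=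
      lt_of_le_of_ne (Nat.le_of_dvd (by omega) h3) hne
    exact hnd _ ⟨χ, rfl⟩ f hfD h5 h6 h3
  -- a degree divisible by `q` exists
  have hex : ∃ d ∈ charDegrees G, q ∣ d := by
    by_contra hno
    push Not at hno
    apply hnr
    have hp0 := Nat.minFac_prime (show f ≠ 1 by omega)
    refine reach_of_all_dvd hp0 ?_
    intro d hd hd1
    rw [hD1 d hd hd1 (hno d hd)]
    exact Nat.minFac_dvd f
  -- they are prime to `f`
  have hcop : ∀ d ∈ charDegrees G, q ∣ d → Nat.Coprime d f := by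
    intro d hd hqd
    by_contra hnc
    obtain ⟨p, hp, hpd, hpf⟩ := Nat.Prime.not_coprime_iff_dvd.1 hnc
    apply hnr
    let P : degreePrimes G := ⟨p, hp, d, hd, hpd⟩
    let Q : degreePrimes G := ⟨q, hq, d, hd, hqd⟩
    have hall : ∀ x : degreePrimes G,
        ((degreeGraph G).induce (degreePrimes G)).Reachable x P := by
      intro x
      obtain ⟨a, ha, d', hd', hxd⟩ := x
      have h1 : d' ≠ 1 := by
        rintro rfl
        exact ha.one_lt.ne' (Nat.dvd_one.1 hxd)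
      by_cases hq' : q ∣ d'
      · exact (Cfsg.Agent.S4811.reach_of_dvd hd' ⟨a, ha, d', hd', hxd⟩ Q hxd hq').trans
          (Cfsg.Agent.S4811.reach_of_dvd hd Q P hqd hpd)
      · have h2 := hD1 d' hd' h1 hq'
        subst h2
        exact Cfsg.Agent.S4811.reach_of_dvd hd' ⟨a, ha, _, hd', hxd⟩ P hxd hpf
    intro v w
    exact (hall v).trans (hall w).symm
  -- nonlinear characters of `A`
  have hN : ∀ τ : IrrCharacter A, 1 < charDegree (τ : A → ℂ) →
      (inertiaOf A (τ : A → ℂ)) = ⊤ ∧ charDegree (τ : A → ℂ) ∈ charDegrees G ∧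
        Nat.Coprime (charDegree (τ : A → ℂ)) f := by
    intro τ hτ
    obtain ⟨χ, hχ, hne⟩ := ItoMichler.exists_irr_over A τ.2
    have hqτ : q ∣ charDegree (τ : A → ℂ) := by
      by_contra h
      have := hL τ h
      omega
    have hdeg := degree_over_cyclic A hcyc τ.2 hχ hne
    have hτd : (τ : A → ℂ) 1 = charDegree (τ : A → ℂ) := (Values.IsCharacter.charDegree_cast
      (Values.IsIrrCharacter.isCharacter τ.2)).symm
    have hχd : charDegree χ = (inertiaOf A (τ : A → ℂ)).index * charDegree (τ : A → ℂ) := by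
      apply Values.IsCharacter.charDegree_eq (Values.IsIrrCharacter.isCharacter hχ)
      rw [hdeg, hτd]
      push_cast
      rfl
    have hqχ : q ∣ charDegree χ := by rw [hχd]; exact Dvd.dvd.mul_left hqτ _
    have hcχ := hcop _ ⟨⟨χ, hχ⟩, rfl⟩ hqχ
    have ht1 : (inertiaOf A (τ : A → ℂ)).index = 1 :=
      Nat.eq_one_of_dvd_coprimes hcχ (by rw [hχd]; exact Dvd.intro _ rfl) (hT τ)
    rw [ht1, one_mul] at hχd
    refine ⟨Subgroup.index_eq_one.1 ht1, ⟨⟨χ, hχ⟩, hχd⟩, ?_⟩
    rw [← hχd]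
    exact hcχ
  -- the converse
  have hC : ∀ d ∈ charDegrees G, q ∣ d → ∃ τ : IrrCharacter A, 1 < charDegree (τ : A → ℂ) ∧
      charDegree (τ : A → ℂ) = d := by
    intro d hd hqd
    obtain ⟨χ, rfl⟩ := id hd
    obtain ⟨τ, hτ⟩ := hO χ
    have hc := hcop _ hd hqd
    have ht1 : (inertiaOf A (τ : A → ℂ)).index = 1 :=
      Nat.eq_one_of_dvd_coprimes hc (by rw [hτ]; exact Dvd.intro _ rfl) (hT τ)
    rw [ht1, one_mul] at hτ
    refine ⟨τ, ?_, hτ.symm⟩
    have h0 := degree_pos' τ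
    have h1 : charDegree (τ : A → ℂ) ≠ 1 := by
      intro h
      rw [hτ, h] at hqd
      exact hq.one_lt.ne' (Nat.dvd_one.1 hqd)
    omega
  -- the automorphism
  obtain ⟨gb, hgb⟩ := IsCyclic.exists_generator (α := G ⧸ A)
  obtain ⟨u₀, rfl⟩ := QuotientGroup.mk_surjective gb
  have hs : f.minFac.Prime := Nat.minFac_prime (by omega)
  set s := f.minFac with hsdef
  have hsf : s ∣ f := Nat.minFac_dvd f
  obtain ⟨k, m, hsm, hord⟩ := Nat.exists_eq_pow_mul_and_not_dvd (orderOf_pos u₀).ne' s hs.ne_one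
  let c : G := u₀ ^ m
  have hcpow : c ^ (s ^ k) = 1 := by
    show (u₀ ^ m) ^ (s ^ k) = 1
    rw [← pow_mul, mul_comm, ← hord, pow_orderOf_eq_one]
  have hcA : c ∉ A := by
    intro hc
    have h1 : ((u₀ : G ⧸ A)) ^ m = 1 := by
      have h2 : ((c : G) : G ⧸ A) = 1 := (QuotientGroup.eq_one_iff c).2 hc
      rw [← h2]
      rfl
    have h3 := orderOf_dvd_of_pow_eq_one h1
    have h4 : orderOf ((u₀ : G ⧸ A)) = Nat.card (G ⧸ A) := orderOf_eq_card_of_forall_mem_zpowers hgb
    rw [h4] at h3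
    have h5 : Nat.card (G ⧸ A) = f := rfl
    rw [h5] at h3
    exact hsm (hsf.trans h3)
  let α : A ≃* A := MulAut.conjNormal c
  have hαv : ∀ a : A, ((α a : A) : G) = c * a * c⁻¹ := fun a => MulAut.conjNormal_apply c a
  have hM : MHyp α s k := by
    refine ⟨hs, ?_, ?_, ?_, ?_, ?_⟩
    · intro a
      have h1 : ∀ n : ℕ, (((α^[n]) a : A) : G) = c ^ n * a * (c ^ n)⁻¹ := by
        intro n
        induction n with
        | zero => simp
        | succ n ih =>
          rw [Function.iterate_succ_apply', hαv, ih]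
          group
      apply Subtype.ext
      rw [h1, hcpow]
      simp
    · intro θ hθ a
      obtain ⟨h1, -, -⟩ := hN θ hθ
      have h2 : c ∈ inertiaOf A (θ : A → ℂ) := by rw [h1]; trivial
      rw [mem_inertiaOf] at h2
      exact h2 a
    · intro θ hθ h
      obtain ⟨-, -, h1⟩ := hN θ hθ
      have h2 : s ∣ Nat.gcd (charDegree (θ : A → ℂ)) f := Nat.dvd_gcd h hsf
      rw [h1] at h2
      exact hs.one_lt.ne' (Nat.dvd_one.1 h2)
    · intro θ₁ θ₂ h₁ hdvd
      have h0 := degree_pos' θ₂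
      have h₂ : 1 < charDegree (θ₂ : A → ℂ) := by
        have := Nat.le_of_dvd h0 hdvd
        omega
      obtain ⟨-, hd₁, -⟩ := hN θ₁ h₁
      obtain ⟨-, hd₂, -⟩ := hN θ₂ h₂
      by_contra hne
      have hlt := lt_of_le_of_ne (Nat.le_of_dvd h0 hdvd) hne
      exact hnd _ hd₁ _ hd₂ h₁ hlt hdvd
    · obtain ⟨v, hv⟩ := hμ c hcA
      refine ⟨v, fun hmem => hv ?_⟩
      have hker : commutator A ≤ μ.ker := by
        unfold commutator
        rw [Subgroup.commutator_le]
        intro a _ b _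
        rw [MonoidHom.mem_ker, commutatorElement_def, map_mul, map_mul, map_mul, map_inv, map_inv,
          mul_comm (μ a), mul_assoc (μ b), mul_inv_cancel, mul_one, mul_inv_cancel]
      have h1 := hker hmem
      rw [MonoidHom.mem_ker, map_mul, map_inv, mul_inv_eq_one] at h1
      exact h1
  -- the conclusion
  obtain ⟨d₂, hd₂, hqd₂⟩ := hex
  have hset : charDegrees G = {1, f, d₂} := by
    ext d
    simp only [Set.mem_insert_iff, Set.mem_singleton_iff]
    constructor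
    · intro hd
      by_cases h1 : d = 1
      · exact Or.inl h1
      right
      by_cases hqd : q ∣ d
      · right
        obtain ⟨τ, hτ, rfl⟩ := hC d hd hqd
        obtain ⟨τ₂, hτ₂, rfl⟩ := hC d₂ hd₂ hqd₂
        exact thmM hM τ τ₂ hτ hτ₂
      · exact Or.inl (hD1 d hd h1 hqd)
    · rintro (rfl | rfl | rfl)
      · exact one_mem_degrees G
      · exact hfD
      · exact hd₂
  rw [hset]
  have h1f : (1 : ℕ) ≠ f := by omega
  have h1d : (1 : ℕ) ≠ d₂ := by
    rintro rfl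
    exact hq.one_lt.ne' (Nat.dvd_one.1 hqd₂)
  have hfd : f ≠ d₂ := by
    rintro rfl
    exact hqf hqd₂
  rw [Nat.card_coe_set_eq]
  exact Set.ncard_eq_three.mpr ⟨1, f, d₂, h1f, h1d, hfd, rfl⟩

/-- **The theorem.** -/
theorem main {G : Type u} [Group G] [Finite G] [Group.IsSolvable G]
    (hnd : ∀ a ∈ charDegrees G, ∀ b ∈ charDegrees G, 1 < a → a < b → ¬ a ∣ b)
    (htwo : Nat.card ((degreeGraph G).induce (degreePrimes G)).ConnectedComponent = 2) :
    Nat.card ↥(charDegrees G) = 3 := by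
  classical
  haveI : Fintype G := Fintype.ofFinite _
  have hnr : ¬ ∀ v w : degreePrimes G,
      ((degreeGraph G).induce (degreePrimes G)).Reachable v w := by
    intro h
    have := card_le_one_of_reach _ h
    omega
  have hnab : commutator G ≠ ⊥ := by
    intro hF
    apply hnr
    have hcomm : ∀ a b : G, a * b = b * a := by
      intro a b
      have h2 : a * b * a⁻¹ * b⁻¹ ∈ commutator G :=
        Subgroup.commutator_mem_commutator (Subgroup.mem_top a) (Subgroup.mem_top b)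
      rw [hF, Subgroup.mem_bot] at h2
      calc a * b = a * b * a⁻¹ * b⁻¹ * (b * a) := by group
        _ = b * a := by rw [h2, one_mul]
    refine reach_of_all_dvd Nat.prime_two ?_
    rintro d ⟨χ, rfl⟩ hd
    exfalso
    apply hd
    have h3 := Cfsg.Agent.Lib.Char.FrobPair.degree_eq_one_of_comm hcomm χ.2
    unfold charDegree
    rw [h3]
    simp
  obtain ⟨M, hM, -, hne, hV, hmin⟩ := exists_chief_quot hnab
  haveI := hM
  haveI : Fintype (G ⧸ M) := Fintype.ofFinite _
  obtain ⟨p, hp, hexp⟩ := exists_prime_exp hne hV hmin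
  let π : G →* G ⧸ M := QuotientGroup.mk' M
  have hπ : Function.Surjective π := QuotientGroup.mk'_surjective M
  by_cases hcen : commutator (G ⧸ M) ≤ Subgroup.center (G ⧸ M)
  · exfalso
    obtain ⟨f, hpf, ⟨ξ, hξ⟩, hkey⟩ := central_top π hπ hne hmin hcen hp hexp
    have hf0 := degree_pos' ξ
    rw [hξ] at hf0
    have hf1 : 1 < f := by
      have := Nat.le_of_dvd hf0 hpf
      have := hp.two_le
      omega
    have hfD : f ∈ charDegrees G := ⟨ξ, hξ⟩
    apply hnr
    refine reach_of_all_dvd hp ?_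
    rintro d ⟨χ, rfl⟩ hd
    by_contra hpd
    obtain ⟨ζ, hζ⟩ := hkey χ hpd
    have h0 := degree_pos' χ
    have h1 : 1 < charDegree (χ : G → ℂ) := by omega
    have h2 : charDegree (χ : G → ℂ) < charDegree (χ : G → ℂ) * f := by nlinarith
    exact hnd _ ⟨χ, rfl⟩ _ ⟨ζ, hζ⟩ h1 h2 (Dvd.intro _ rfl)
  · obtain ⟨A, hAn, μ, hcyc, hqf, hAtop, hμ, hν⟩ := nc_setup π hπ hne hV hmin hcen hp hexp
    haveI := hAn
    exact nc_main hnd hnr A μ hp hcyc hqf hAtop hμ hν

end Cfsg.Agent.Lib.NoDiv
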